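import Mathlib.RingTheory.MvPolynomial.Basic
import Mathlib.Algebra.MvPolynomial.Equiv
import Mathlib.LinearAlgebra.Matrix.ToLin

/-! A minimal exact sequence of free modules over a polynomial ring is bounded by the number of variables. -/

universe u

open MvPolynomial

namespace GrothLib.GrSyz

theorem rk_eq_zero {k : Type u} [Field k] : ∀ (n : ℕ) (rk : ℕ → ℕ)
    (d : (i : ℕ) → Matrix (Fin (rk i)) (Fin (rk (i + 1))) (MvPolynomial (Fin n) k)),
    (∀ i a b, constantCoeff (d i a b) = 0) →
    (∀ i, LinearMap.ker (Matrix.mulVecLin (d i)) = LinearMap.range (Matrix.mulVecLin (d (i + 1)))) →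
    ∀ j, n < j → rk j = 0 := by
  intro n
  induction n with
  | zero =>
    intro rk d hmin hex j hj
    obtain ⟨i, rfl⟩ : ∃ i, j = i + 1 := ⟨j - 1, by omega⟩
    have hd : ∀ i, d i = 0 := fun i => Matrix.ext fun a b => by
      rw [eq_C_of_isEmpty (d i a b), ← constantCoeff_eq, hmin i a b, map_zero]; rfl
    by_contra h
    let b : Fin (rk (i + 1)) := ⟨0, Nat.pos_of_ne_zero h⟩
    have h1 : (Pi.single b 1 : Fin (rk (i + 1)) → MvPolynomial (Fin 0) k) ∈
        LinearMap.range (Matrix.mulVecLin (d (i + 1))) := by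
      rw [← hex i]; simp [hd i]
    obtain ⟨v, hv⟩ := h1
    simpa [hd (i + 1)] using congr_fun hv b
  | succ n ih =>
    intro rk d hmin hex j hj
    let s : MvPolynomial (Fin n) k →ₐ[k] MvPolynomial (Fin (n + 1)) k := rename Fin.succ
    let φ : MvPolynomial (Fin (n + 1)) k →ₐ[k] MvPolynomial (Fin n) k := aeval (Fin.cases 0 X)
    have hφs : ∀ a, φ (s a) = a := fun a => by
      show φ (rename Fin.succ a) = a
      rw [aeval_rename]
      exact (congrFun (congrArg DFunLike.coe (congrArg aeval (funext fun i => by simp) : _ = aeval (X : Fin n → _))) a).trans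
        (aeval_X_left_apply a)
    have hdvd : ∀ a, ∃ w, a - s (φ a) = X 0 * w := by
      intro a
      induction a using MvPolynomial.induction_on with
      | C c => exact ⟨0, by simp [s, φ]⟩
      | add p q hp hq =>
        obtain ⟨u, hu⟩ := hp
        obtain ⟨v, hv⟩ := hq
        exact ⟨u + v, by rw [map_add, map_add, add_sub_add_comm, hu, hv, mul_add]⟩
      | mul_X p i hp =>
        obtain ⟨u, hu⟩ := hp
        refine Fin.cases ⟨p, ?_⟩ (fun i => ⟨u * X i.succ, ?_⟩) i
        · simp [s, φ, mul_comm]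
        · rw [map_mul, map_mul, show s (φ (X i.succ)) = X i.succ by simp [s, φ], ← sub_mul, hu, mul_assoc]
    have hcomm : ∀ {p q : ℕ} (A : Matrix (Fin p) (Fin q) (MvPolynomial (Fin (n + 1)) k)) v,
        φ ∘ (A.mulVec v) = (A.map φ).mulVec (φ ∘ v) := fun A v =>
      funext fun a => by
        simp [Matrix.mulVec, dotProduct, map_sum, map_mul]
    have hcc : ∀ a, constantCoeff (φ a) = constantCoeff a := by
      intro a
      induction a using MvPolynomial.induction_on with
      | C c => simp [φ]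
      | add p q hp hq => simp [hp, hq]
      | mul_X p i hp => induction i using Fin.cases <;> simp [φ]
    obtain ⟨j, rfl⟩ : ∃ i, j = i + 1 := ⟨j - 1, by omega⟩
    refine ih (fun i => rk (i + 1)) (fun i => (d (i + 1)).map φ) (fun i a b => by
      rw [Matrix.map_apply, hcc, hmin]) (fun i => le_antisymm (fun v hv => ?_) ?_) j (by omega)
    · rw [LinearMap.mem_ker, Matrix.mulVecLin_apply] at hv
      have hker : ∀ b, ∃ w, (d (i + 1)).mulVec (s ∘ v) b = X 0 * w := fun b => by
        obtain ⟨w, hw⟩ := hdvd ((d (i + 1)).mulVec (s ∘ v) b)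
        refine ⟨w, ?_⟩
        have h0 : φ ((d (i + 1)).mulVec (s ∘ v) b) = 0 := by
          have := congrFun (hcomm (d (i + 1)) (s ∘ v)) b
          rw [show φ ∘ s ∘ v = v from funext fun c => hφs (v c), hv] at this
          simpa using this
        rwa [h0, map_zero, sub_zero] at hw
      choose w hw using hker
      have hw' : (d (i + 1)).mulVec (s ∘ v) = (X 0 : MvPolynomial (Fin (n + 1)) k) • w := funext fun b => by
        rw [hw b, Pi.smul_apply, smul_eq_mul]
      have hdw : (d i).mulVec w = 0 := by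
        have h1 : (d i).mulVec ((d (i + 1)).mulVec (s ∘ v)) = 0 :=
          LinearMap.mem_ker.1 ((hex i).ge ⟨_, rfl⟩)
        rw [hw', Matrix.mulVec_smul, smul_eq_zero] at h1
        exact h1.resolve_left (X_ne_zero _)
      obtain ⟨u, hu⟩ := (hex i).le (LinearMap.mem_ker.2 hdw)
      rw [Matrix.mulVecLin_apply] at hu
      have h2 : (s ∘ v - (X 0 : MvPolynomial (Fin (n + 1)) k) • u) ∈ LinearMap.ker (Matrix.mulVecLin (d (i + 1))) := by
        rw [LinearMap.mem_ker, map_sub, Matrix.mulVecLin_apply, map_smul, Matrix.mulVecLin_apply, hw', hu, sub_self]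
      obtain ⟨z, hz⟩ := (hex (i + 1)).le h2
      rw [Matrix.mulVecLin_apply] at hz
      refine ⟨φ ∘ z, ?_⟩
      rw [Matrix.mulVecLin_apply, ← hcomm, hz]
      funext b
      simp [φ, hφs (v b)]
    · rintro _ ⟨z, rfl⟩
      rw [LinearMap.mem_ker, Matrix.mulVecLin_apply, Matrix.mulVecLin_apply]
      have hz : z = φ ∘ (s ∘ z) := funext fun b => (hφs (z b)).symm
      rw [hz, ← hcomm, ← hcomm]
      have h1 : (d (i + 1)).mulVec ((d (i + 1 + 1)).mulVec (s ∘ z)) = 0 :=
        LinearMap.mem_ker.1 ((hex (i + 1)).ge ⟨_, rfl⟩)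
      rw [h1]
      funext b
      simp

end GrothLib.GrSyz
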