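import Groth.Agent.Lib.GrSyz.Unique
import Mathlib.Algebra.Category.ModuleCat.Projective
import Mathlib.Algebra.Category.ModuleCat.Ext.DimensionShifting
import Mathlib.CategoryTheory.Abelian.Projective.Dimension
import Mathlib.Algebra.Category.ModuleCat.Abelian
import Mathlib.Algebra.Homology.ShortComplex.ModuleCat

/-! Length of a minimal resolution versus projective dimension. -/

universe u

open MvPolynomial CategoryTheory

namespace GrothLib.GrSyz

variable {k : Type u} [Field k] {n : ℕ}

theorem pr_mul_eq_zero {a w : MvPolynomial (Fin n) k} (ha : constantCoeff a = 0) {g j : ℤ}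
    (hw : ∀ g', g' < j → pr g' w = 0) (hg : g < j + 1) : pr g (a * w) = 0 := by
  classical
  rw [← DirectSum.sum_support_decompose (GrSyz.stdGr k (Fin n)) a, Finset.sum_mul, map_sum]
  refine Finset.sum_eq_zero fun i _ => ?_
  rw [pr_mul (DirectSum.decompose (GrSyz.stdGr k (Fin n)) a i).2]
  rcases lt_or_ge 0 i with hi | hi
  · rw [hw _ (by omega), mul_zero]
  · rcases lt_or_eq_of_le hi with hi | rfl
    · rw [eq_zero_of_mem_neg hi (DirectSum.decompose (GrSyz.stdGr k (Fin n)) a i).2, zero_mul]
    · rw [← GradedAlgebra.proj_apply, pr_zero_eq a, ha, map_zero, zero_mul]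

/-- A projection onto a submodule contained in `m F` vanishes. -/
theorem eq_zero_of_proj {m : ℕ} {N : Type*} [AddCommGroup N] [Module (MvPolynomial (Fin n) k) N]
    (L : (Fin m → MvPolynomial (Fin n) k) →ₗ[MvPolynomial (Fin n) k] N)
    (s : N →ₗ[MvPolynomial (Fin n) k] (Fin m → MvPolynomial (Fin n) k)) (hs : ∀ v, L (s (L v)) = L v)
    (hker : ∀ v, L v = 0 → ∀ b, constantCoeff (v b) = 0) : Function.Injective L := by
  classical
  rw [← LinearMap.ker_eq_bot, Submodule.eq_bot_iff]
  intro z hz
  rw [LinearMap.mem_ker] at hz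
  have key : ∀ (j : ℕ) (z : Fin m → MvPolynomial (Fin n) k), L z = 0 → ∀ b g, g < (j : ℤ) → pr g (z b) = 0 := by
    intro j
    induction j with
    | zero => intro z _ b g hg; exact eq_zero_of_mem_neg (by omega) (pr_mem g (z b))
    | succ j ih =>
      intro z hz b g hg
      let w : Fin m → Fin m → MvPolynomial (Fin n) k := fun c => Pi.single c 1 - s (L (Pi.single c 1))
      have hw : ∀ c, L (w c) = 0 := fun c => by rw [map_sub, hs, sub_self]
      have h2 : ∑ c, z c • w c = z := by
        simp only [w, smul_sub, Finset.sum_sub_distrib, ← map_smul, ← map_sum]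
        have : ∑ c, z c • (Pi.single c 1 : Fin m → MvPolynomial (Fin n) k) = z := by
          funext d; simp [Finset.sum_apply, Pi.single_apply]
        rw [this, hz, map_zero, sub_zero]
      rw [← h2, Finset.sum_apply, map_sum]
      refine Finset.sum_eq_zero fun c _ => ?_
      rw [Pi.smul_apply, smul_eq_mul]
      exact pr_mul_eq_zero (hker z hz c) (fun g' hg' => ih _ (hw c) b g' hg') (by push_cast at hg ⊢; omega)
  funext b
  rw [Pi.zero_apply, ← DirectSum.sum_support_decompose (GrSyz.stdGr k (Fin n)) (z b)]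
  refine Finset.sum_eq_zero fun i _ => ?_
  rw [← GradedAlgebra.proj_apply]
  exact key (i.toNat + 1) z hz b i (by omega)

/-- A projective quotient of a free module by a kernel inside `m F` is that free module. -/
theorem injective_of_projective {m : ℕ} {N : Type*} [AddCommGroup N] [Module (MvPolynomial (Fin n) k) N]
    [Module.Projective (MvPolynomial (Fin n) k) N]
    (L : (Fin m → MvPolynomial (Fin n) k) →ₗ[MvPolynomial (Fin n) k] N) (hL : Function.Surjective L)
    (hker : ∀ v, L v = 0 → ∀ b, constantCoeff (v b) = 0) : Function.Injective L := by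
  obtain ⟨s, hs⟩ := Module.projective_lifting_property L LinearMap.id hL
  exact eq_zero_of_proj L s (fun v => LinearMap.congr_fun hs (L v)) hker

variable {M : Type u} [AddCommGroup M] [Module k M] [Module (MvPolynomial (Fin n) k) M]
  {ℳ : ℤ → Submodule k M} [DirectSum.Decomposition ℳ] [SetLike.GradedSMul (GrSyz.stdGr k (Fin n)) ℳ]
  (F : GrSyz.FreeRes (GrSyz.stdGr k (Fin n)) ℳ)

/-- The syzygy modules. -/
noncomputable def syz : (i : ℕ) → Submodule (MvPolynomial (Fin n) k) (Fin (F.rk i) → MvPolynomial (Fin n) k)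
  | 0 => LinearMap.ker F.augLin
  | i + 1 => LinearMap.ker (F.dLin i)

theorem range_dLin (i : ℕ) : LinearMap.range (F.dLin i) = syz F i := by
  cases i with
  | zero => exact F.exact_zero.symm
  | succ i => exact (F.exact_succ i).symm

/-- The differential onto the syzygy module. -/
noncomputable def toSyz (i : ℕ) : (Fin (F.rk (i + 1)) → MvPolynomial (Fin n) k) →ₗ[MvPolynomial (Fin n) k] syz F i :=
  LinearMap.codRestrict (syz F i) (F.dLin i) fun v => (range_dLin F i).le ⟨v, rfl⟩

theorem toSyz_surjective (i : ℕ) : Function.Surjective (toSyz F i) := fun z => by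
  obtain ⟨v, hv⟩ := (range_dLin F i).ge z.2
  exact ⟨v, Subtype.ext hv⟩

theorem hasPDLT_syz_iff (i j : ℕ) :
    HasProjectiveDimensionLT (ModuleCat.of (MvPolynomial (Fin n) k) (syz F i)) (j + 2) ↔
      HasProjectiveDimensionLT (ModuleCat.of (MvPolynomial (Fin n) k) (syz F (i + 1))) (j + 1) := by
  let f : ModuleCat.of (MvPolynomial (Fin n) k) (syz F (i + 1)) ⟶
      ModuleCat.of _ (Fin (F.rk (i + 1)) → MvPolynomial (Fin n) k) := ModuleCat.ofHom (syz F (i + 1)).subtype
  let g : ModuleCat.of (MvPolynomial (Fin n) k) (Fin (F.rk (i + 1)) → MvPolynomial (Fin n) k) ⟶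
      ModuleCat.of _ (syz F i) := ModuleCat.ofHom (toSyz F i)
  have w : f ≫ g = 0 := ModuleCat.hom_ext (LinearMap.ext fun z => Subtype.ext (LinearMap.mem_ker.1 z.2))
  have hS : (ShortComplex.mk f g w).ShortExact :=
    { exact := (ShortComplex.moduleCat_exact_iff _).2 fun v hv => ⟨⟨v, LinearMap.mem_ker.2 (congrArg Subtype.val hv)⟩, rfl⟩
      mono_f := (ModuleCat.mono_iff_injective _).2 Subtype.val_injective
      epi_g := (ModuleCat.epi_iff_surjective _).2 (toSyz_surjective F i) }
  exact hS.hasProjectiveDimensionLT_X₃_iff j ((IsProjective.iff_projective _).1 inferInstance)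

theorem hasPDLT_iff_zero (j : ℕ) :
    HasProjectiveDimensionLT (ModuleCat.of (MvPolynomial (Fin n) k) M) (j + 2) ↔
      HasProjectiveDimensionLT (ModuleCat.of (MvPolynomial (Fin n) k) (syz F 0)) (j + 1) := by
  let f : ModuleCat.of (MvPolynomial (Fin n) k) (syz F 0) ⟶
      ModuleCat.of _ (Fin (F.rk 0) → MvPolynomial (Fin n) k) := ModuleCat.ofHom (syz F 0).subtype
  let g : ModuleCat.of (MvPolynomial (Fin n) k) (Fin (F.rk 0) → MvPolynomial (Fin n) k) ⟶
      ModuleCat.of _ M := ModuleCat.ofHom F.augLin
  have w : f ≫ g = 0 := by ext z; exact LinearMap.mem_ker.1 z.2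
  have hS : (ShortComplex.mk f g w).ShortExact :=
    { exact := (ShortComplex.moduleCat_exact_iff _).2 fun v hv => ⟨⟨v, LinearMap.mem_ker.2 hv⟩, rfl⟩
      mono_f := (ModuleCat.mono_iff_injective _).2 Subtype.val_injective
      epi_g := (ModuleCat.epi_iff_surjective _).2 F.aug_surjective }
  exact hS.hasProjectiveDimensionLT_X₃_iff j ((IsProjective.iff_projective _).1 inferInstance)

theorem hasPDLT_iff_syz : ∀ (i j : ℕ), HasProjectiveDimensionLT (ModuleCat.of (MvPolynomial (Fin n) k) M) (i + j + 2) ↔
    HasProjectiveDimensionLT (ModuleCat.of (MvPolynomial (Fin n) k) (syz F i)) (j + 1) := by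
  intro i
  induction i with
  | zero => intro j; rw [Nat.zero_add]; exact hasPDLT_iff_zero F j
  | succ i ih => intro j; rw [show i + 1 + j + 2 = i + (j + 1) + 2 by omega, ih (j + 1), hasPDLT_syz_iff]

theorem projective_iff (N : Type u) [AddCommGroup N] [Module (MvPolynomial (Fin n) k) N] :
    HasProjectiveDimensionLT (ModuleCat.of (MvPolynomial (Fin n) k) N) 1 ↔ Module.Projective (MvPolynomial (Fin n) k) N := by
  rw [← projective_iff_hasProjectiveDimensionLT_one]
  exact (IsProjective.iff_projective _).symm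

variable (hF : F.IsMinimal (GrSyz.irrel (GrSyz.stdGr k (Fin n))).toIdeal)
include hF

theorem rk_eq_zero_succ {i : ℕ} (h : F.dLin i = 0) : F.rk (i + 1) = 0 := by
  by_contra hne
  let b : Fin (F.rk (i + 1)) := ⟨0, Nat.pos_of_ne_zero hne⟩
  have := d_ker_minimal F hF i (Pi.single b 1) (by rw [h]; rfl) b
  simp at this

theorem rk_eq_zero_of_le {i j : ℕ} (h : F.rk i = 0) (hij : i ≤ j) : F.rk j = 0 := by
  induction j, hij using Nat.le_induction with
  | base => exact h
  | succ j _ ih =>
    refine rk_eq_zero_succ F hF ?_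
    ext v a
    exact absurd ih (Nat.pos_iff_ne_zero.1 a.pos)

theorem hasLengthLE_iff_pd (N : ℕ) :
    F.HasLengthLE N ↔ HasProjectiveDimensionLE (ModuleCat.of (MvPolynomial (Fin n) k) M) N := by
  cases N with
  | zero =>
    rw [show HasProjectiveDimensionLE (ModuleCat.of (MvPolynomial (Fin n) k) M) 0 ↔ _ from projective_iff M]
    constructor
    · intro h
      have hinj : Function.Injective F.augLin := by
        rw [← LinearMap.ker_eq_bot, F.exact_zero, Submodule.eq_bot_iff]
        rintro _ ⟨v, rfl⟩
        have h1 : F.rk 1 = 0 := h 1 one_pos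
        rw [show v = 0 from funext fun b => absurd h1 (Nat.pos_iff_ne_zero.1 b.pos), map_zero]
      exact Module.Projective.of_equiv (LinearEquiv.ofBijective F.augLin ⟨hinj, F.aug_surjective⟩)
    · intro h i hi
      refine rk_eq_zero_of_le F hF (rk_eq_zero_succ F hF (i := 0) ?_) hi
      refine LinearMap.ext fun v => injective_of_projective F.augLin F.aug_surjective (aug_ker_minimal F hF) ?_
      rw [LinearMap.zero_apply, map_zero]
      exact LinearMap.mem_ker.1 (F.exact_zero.ge ⟨v, rfl⟩)
  | succ N =>
    rw [show HasProjectiveDimensionLE (ModuleCat.of (MvPolynomial (Fin n) k) M) (N + 1) ↔ _ from hasPDLT_iff_syz F N 0,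
      projective_iff]
    constructor
    · intro h
      have hinj : Function.Injective (toSyz F N) := by
        rw [← LinearMap.ker_eq_bot, Submodule.eq_bot_iff]
        intro v hv
        obtain ⟨w, rfl⟩ := (F.exact_succ N).le (LinearMap.mem_ker.2 (congrArg Subtype.val (LinearMap.mem_ker.1 hv)) : v ∈ _)
        rw [show w = 0 from funext fun b => absurd (h (N + 1 + 1) (by omega)) (Nat.pos_iff_ne_zero.1 b.pos), map_zero]
      exact Module.Projective.of_equiv (LinearEquiv.ofBijective (toSyz F N) ⟨hinj, toSyz_surjective F N⟩)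
    · intro h i hi
      refine rk_eq_zero_of_le F hF (rk_eq_zero_succ F hF (i := N + 1) ?_) (show N + 1 + 1 ≤ i by omega)
      refine LinearMap.ext fun v => injective_of_projective (toSyz F N) (toSyz_surjective F N)
        (fun w hw => d_ker_minimal F hF N w (congrArg Subtype.val hw)) ?_
      rw [LinearMap.zero_apply, map_zero]
      exact Subtype.ext (LinearMap.mem_ker.1 ((F.exact_succ N).ge ⟨v, rfl⟩))

end GrothLib.GrSyz
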