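import Groth.Agent.Lib.GrSyz.Unique
import Mathlib.Algebra.Category.ModuleCat.Monoidal.Closed
import Mathlib.Algebra.Category.ModuleCat.Monoidal.Symmetric
import Mathlib.Algebra.Category.ModuleCat.Projective
import Mathlib.Algebra.Category.ModuleCat.Abelian
import Mathlib.Algebra.Category.ModuleCat.EpiMono
import Mathlib.Algebra.Homology.ShortComplex.ModuleCat
import Mathlib.CategoryTheory.Monoidal.Tor
import Mathlib.CategoryTheory.Abelian.LeftDerived
import Mathlib.Algebra.Homology.SingleHomology
import Mathlib.LinearAlgebra.TensorProduct.Pi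
import Mathlib.RingTheory.Length

/-! Tor against the residue field computed by a minimal resolution. -/

universe u

open MvPolynomial CategoryTheory

namespace GrothLib.GrSyz

variable {k : Type u} [Field k] {n : ℕ}
  {M : Type u} [AddCommGroup M] [Module k M] [Module (MvPolynomial (Fin n) k) M]
  {ℳ : ℤ → Submodule k M} [DirectSum.Decomposition ℳ] [SetLike.GradedSMul (GrSyz.stdGr k (Fin n)) ℳ]
  (F : GrSyz.FreeRes (GrSyz.stdGr k (Fin n)) ℳ)

/-- The complex of a free resolution. -/
noncomputable def complex : ChainComplex (ModuleCat.{u} (MvPolynomial (Fin n) k)) ℕ :=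
  ChainComplex.of (fun i => ModuleCat.of _ (Fin (F.rk i) → MvPolynomial (Fin n) k))
    (fun i => ModuleCat.ofHom (F.dLin i))
    (fun i => ModuleCat.hom_ext (LinearMap.ext fun v =>
      LinearMap.mem_ker.1 ((F.exact_succ i).ge ⟨v, rfl⟩)))

theorem complex_d (i : ℕ) : (complex F).d (i + 1) i = ModuleCat.ofHom (F.dLin i) :=
  ChainComplex.of_d (fun i => ModuleCat.of (MvPolynomial (Fin n) k) (Fin (F.rk i) → MvPolynomial (Fin n) k))
    (fun i => ModuleCat.ofHom (F.dLin i)) i

theorem complex_d_aug : (complex F).d 1 0 ≫ ModuleCat.ofHom F.augLin = 0 := by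
  rw [complex_d F 0]
  exact ModuleCat.hom_ext (LinearMap.ext fun v => LinearMap.mem_ker.1 (F.exact_zero.ge ⟨v, rfl⟩))

/-- The projective resolution of a free resolution. -/
noncomputable def projRes : ProjectiveResolution (ModuleCat.of (MvPolynomial (Fin n) k) M) where
  complex := complex F
  projective i := (IsProjective.iff_projective _).1
    (show Module.Projective (MvPolynomial (Fin n) k) (Fin (F.rk i) → MvPolynomial (Fin n) k) from inferInstance)
  π := (ChainComplex.toSingle₀Equiv _ _).symm ⟨ModuleCat.ofHom F.augLin, complex_d_aug F⟩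
  quasiIso := ⟨fun i => by
    cases i with
    | zero =>
      rw [ChainComplex.quasiIsoAt₀_iff, ShortComplex.quasiIso_iff_of_zeros']
      · refine ⟨(ShortComplex.moduleCat_exact_iff _).2 fun v hv => ?_, (ModuleCat.epi_iff_surjective _).2 ?_⟩
        · have hv' : F.augLin v = 0 := by
            have h := hv
            simp [ChainComplex.toSingle₀Equiv_symm_apply_f_zero] at h
            exact h
          obtain ⟨w, hw⟩ := F.exact_zero.le (LinearMap.mem_ker.2 hv')
          refine ⟨w, ?_⟩
          show ((complex F).d 1 0).hom w = v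
          rw [complex_d F 0]
          exact hw
        · intro x
          obtain ⟨v, hv⟩ := F.aug_surjective x
          refine ⟨v, ?_⟩
          simp [ChainComplex.toSingle₀Equiv_symm_apply_f_zero]
          exact hv
      · exact (complex F).shape _ _ (by simp)
      · rfl
      · rfl
    | succ i =>
      rw [quasiIsoAt_iff_exactAt' _ _ (HomologicalComplex.exactAt_single_obj _ _ _ _ (by simp)),
        HomologicalComplex.exactAt_iff' _ (i + 1 + 1) (i + 1) i (by simp) (by simp)]
      refine (ShortComplex.moduleCat_exact_iff _).2 fun v hv => ?_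
      have hv' : F.dLin i v = 0 := by
        have h : ((complex F).d (i + 1) i).hom v = 0 := hv
        rwa [complex_d F i] at h
      obtain ⟨w, hw⟩ := (F.exact_succ i).le (LinearMap.mem_ker.2 hv')
      refine ⟨w, ?_⟩
      show ((complex F).d (i + 1 + 1) (i + 1)).hom w = v
      rw [complex_d F (i + 1)]
      exact hw⟩

theorem irrel_isMaximal : (GrSyz.irrel (GrSyz.stdGr k (Fin n))).toIdeal.IsMaximal := by
  rw [irrel_eq]
  exact RingHom.ker_isMaximal_of_surjective _ (fun c => ⟨C c, constantCoeff_C _ c⟩)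

variable (hF : F.IsMinimal (GrSyz.irrel (GrSyz.stdGr k (Fin n))).toIdeal)
include hF

theorem lTensor_dLin_eq_zero (i : ℕ) :
    (F.dLin i).lTensor (MvPolynomial (Fin n) k ⧸ (GrSyz.irrel (GrSyz.stdGr k (Fin n))).toIdeal) = 0 := by
  classical
  refine TensorProduct.ext' fun z v => ?_
  rw [LinearMap.lTensor_tmul, LinearMap.zero_apply,
    show F.dLin i v = ∑ a, (F.d i).mulVec v a • (Pi.single a 1 : Fin (F.rk i) → MvPolynomial (Fin n) k) by
      funext b; simp [Finset.sum_apply, Pi.single_apply],
    TensorProduct.tmul_sum]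
  refine Finset.sum_eq_zero fun a _ => ?_
  rw [TensorProduct.tmul_smul, TensorProduct.smul_tmul']
  obtain ⟨z, rfl⟩ := Submodule.Quotient.mk_surjective _ z
  rw [← Submodule.Quotient.mk_smul, (Submodule.Quotient.mk_eq_zero _).2, TensorProduct.zero_tmul]
  exact Ideal.mul_mem_right _ _ (mem_irrel.2 (cc_mulVec_eq_zero (fun a c => mem_irrel.1 (hF i a c)) v a))

theorem length_tor_eq (i : ℕ) :
    Module.length (MvPolynomial (Fin n) k)
        (((CategoryTheory.Tor (ModuleCat.{u} (MvPolynomial (Fin n) k)) i).obj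
            (ModuleCat.of (MvPolynomial (Fin n) k)
              ((MvPolynomial (Fin n) k) ⧸ (GrSyz.irrel (GrSyz.stdGr k (Fin n))).toIdeal))).obj
          (ModuleCat.of (MvPolynomial (Fin n) k) M)) = (F.rk i : ℕ∞) := by
  let K := ModuleCat.of (MvPolynomial (Fin n) k)
    ((MvPolynomial (Fin n) k) ⧸ (GrSyz.irrel (GrSyz.stdGr k (Fin n))).toIdeal)
  let G := (MonoidalCategory.tensoringLeft (ModuleCat.{u} (MvPolynomial (Fin n) k))).obj K
  let C' := (G.mapHomologicalComplex (ComplexShape.down ℕ)).obj (complex F)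
  have hd : ∀ a b, C'.d a b = 0 := by
    intro a b
    by_cases h : b + 1 = a
    · subst h
      show G.map ((complex F).d (b + 1) b) = 0
      rw [complex_d F b]
      exact ModuleCat.hom_ext (lTensor_dLin_eq_zero F hF b)
    · exact C'.shape _ _ h
  let e : ((CategoryTheory.Tor (ModuleCat.{u} (MvPolynomial (Fin n) k)) i).obj K).obj
      (ModuleCat.of (MvPolynomial (Fin n) k) M) ≅ C'.X i :=
    (projRes F).isoLeftDerivedObj G i ≪≫
      (ShortComplex.HomologyData.ofZeros (S := C'.sc i) (hd _ _) (hd _ _)).left.homologyIso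
  rw [e.toLinearEquiv.length_eq]
  have : IsSimpleModule (MvPolynomial (Fin n) k)
      ((MvPolynomial (Fin n) k) ⧸ (GrSyz.irrel (GrSyz.stdGr k (Fin n))).toIdeal) :=
    isSimpleModule_iff_isCoatom.2 irrel_isMaximal.out
  show Module.length (MvPolynomial (Fin n) k) (TensorProduct (MvPolynomial (Fin n) k)
    ((MvPolynomial (Fin n) k) ⧸ (GrSyz.irrel (GrSyz.stdGr k (Fin n))).toIdeal)
    (Fin (F.rk i) → MvPolynomial (Fin n) k)) = _
  rw [(TensorProduct.piScalarRight (MvPolynomial (Fin n) k) (MvPolynomial (Fin n) k)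
    ((MvPolynomial (Fin n) k) ⧸ (GrSyz.irrel (GrSyz.stdGr k (Fin n))).toIdeal) (Fin (F.rk i))).length_eq,
    Module.length_pi, Module.length_eq_one_iff.2 this, mul_one, ENat.card_eq_coe_fintype_card, Fintype.card_fin]

end GrothLib.GrSyz
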