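import Groth.Prelude.Def_GrSyz
import Mathlib.RingTheory.Polynomial.Basic
import Mathlib.RingTheory.Noetherian.Basic
import Mathlib.LinearAlgebra.Matrix.ToLin

/-! Graded free modules over the standard graded polynomial ring and minimal generators. -/

universe u

open MvPolynomial

namespace GrothLib.GrSyz

variable {k : Type u} [CommRing k] {n : ℕ}


theorem weight_one (d : Fin n →₀ ℕ) : Finsupp.weight (fun _ : Fin n => (1 : ℤ)) d = (d.degree : ℤ) := by
  simp [Finsupp.weight_apply, Finsupp.sum, Finsupp.degree]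

/-- The component of degree `g` of a polynomial. -/
noncomputable abbrev pr (g : ℤ) : (MvPolynomial (Fin n) k) →ₗ[k] (MvPolynomial (Fin n) k) := GradedAlgebra.proj (GrSyz.stdGr k (Fin n)) g

theorem pr_mem (g : ℤ) (a : (MvPolynomial (Fin n) k)) : pr g a ∈ (GrSyz.stdGr k (Fin n)) g := by
  rw [pr, GradedAlgebra.proj_apply]; exact SetLike.coe_mem _

theorem pr_of_mem {g : ℤ} {a : (MvPolynomial (Fin n) k)} (h : a ∈ (GrSyz.stdGr k (Fin n)) g) : pr g a = a := by
  rw [pr, GradedAlgebra.proj_apply, DirectSum.decompose_of_mem_same _ h]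

theorem pr_of_mem_ne {g g' : ℤ} {a : (MvPolynomial (Fin n) k)} (h : a ∈ (GrSyz.stdGr k (Fin n)) g) (hne : g ≠ g') : pr g' a = 0 := by
  rw [pr, GradedAlgebra.proj_apply, DirectSum.decompose_of_mem_ne _ h hne]

theorem eq_zero_of_mem_neg {g : ℤ} (hg : g < 0) {a : (MvPolynomial (Fin n) k)} (h : a ∈ (GrSyz.stdGr k (Fin n)) g) : a = 0 := by
  ext d
  rw [coeff_zero]
  by_contra hd
  have := h hd
  rw [weight_one] at this
  omega

theorem mem_zero_eq_C {a : (MvPolynomial (Fin n) k)} (h : a ∈ (GrSyz.stdGr k (Fin n)) 0) : a = C (constantCoeff a) := by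
  ext d
  rw [coeff_C, constantCoeff_eq]
  split_ifs with hd
  · rw [← hd]
  · by_contra hne
    have := h hne
    rw [weight_one] at this
    exact hd (Finsupp.degree_eq_zero_iff _ |>.1 (by exact_mod_cast this)).symm

theorem constantCoeff_of_mem {g : ℤ} (hg : g ≠ 0) {a : (MvPolynomial (Fin n) k)} (h : a ∈ (GrSyz.stdGr k (Fin n)) g) : constantCoeff a = 0 := by
  rw [constantCoeff_eq]
  by_contra hne
  have := h hne
  rw [map_zero] at this
  exact hg this.symm

theorem C_mem (c : k) : (C c : (MvPolynomial (Fin n) k)) ∈ (GrSyz.stdGr k (Fin n)) 0 := isWeightedHomogeneous_C _ c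

theorem pr_zero_eq (a : (MvPolynomial (Fin n) k)) : pr 0 a = C (constantCoeff a) := by
  induction a using DirectSum.Decomposition.inductionOn (GrSyz.stdGr k (Fin n)) with
  | zero => simp
  | @homogeneous g a =>
    rcases eq_or_ne g 0 with rfl | hg
    · rw [pr_of_mem a.2]; exact mem_zero_eq_C a.2
    · rw [pr_of_mem_ne a.2 hg, constantCoeff_of_mem hg a.2, map_zero]
  | add a b ha hb => rw [map_add, map_add, map_add, ha, hb]

theorem irrel_eq : (GrSyz.irrel (GrSyz.stdGr k (Fin n))).toIdeal = RingHom.ker (constantCoeff : (MvPolynomial (Fin n) k) →+* k) := by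
  refine le_antisymm (Ideal.span_le.2 ?_) fun a ha => ?_
  · rintro a ⟨g, hg, ha⟩
    exact constantCoeff_of_mem hg.ne' ha
  · classical
    rw [← DirectSum.sum_support_decompose (GrSyz.stdGr k (Fin n)) a]
    refine Ideal.sum_mem _ fun g _ => ?_
    rcases lt_trichotomy g 0 with hg | rfl | hg
    · rw [eq_zero_of_mem_neg hg (DirectSum.decompose (GrSyz.stdGr k (Fin n)) a g).2]; exact zero_mem _
    · rw [← GradedAlgebra.proj_apply, pr_zero_eq a, RingHom.mem_ker.1 ha, map_zero]; exact zero_mem _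
    · exact Ideal.subset_span ⟨g, hg, (DirectSum.decompose (GrSyz.stdGr k (Fin n)) a g).2⟩

theorem mem_irrel {a : (MvPolynomial (Fin n) k)} : a ∈ (GrSyz.irrel (GrSyz.stdGr k (Fin n))).toIdeal ↔ constantCoeff a = 0 := by
  rw [irrel_eq]; rfl

theorem pr_mul {g d : ℤ} {a : (MvPolynomial (Fin n) k)} (h : a ∈ (GrSyz.stdGr k (Fin n)) d) (b : (MvPolynomial (Fin n) k)) : pr g (a * b) = a * pr (g - d) b := by
  have := DirectSum.coe_decompose_mul_add_of_left_mem (𝒜 := (GrSyz.stdGr k (Fin n))) (b := b) (j := g - d) h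
  rw [add_sub_cancel] at this
  simpa [GradedAlgebra.proj_apply] using this

section Module

variable {M : Type u} [AddCommGroup M] [Module k M] [Module (MvPolynomial (Fin n) k) M]
  (ℳ : ℤ → Submodule k M) [DirectSum.Decomposition ℳ] [SetLike.GradedSMul (GrSyz.stdGr k (Fin n)) ℳ]

/-- The component of degree `g` of a module element. -/
noncomputable def mc (g : ℤ) : M →+ M where
  toFun x := DirectSum.decompose ℳ x g
  map_zero' := by simp
  map_add' x y := by simp

theorem mc_of_mem {g : ℤ} {x : M} (h : x ∈ ℳ g) : mc ℳ g x = x :=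
  DirectSum.decompose_of_mem_same ℳ h

theorem mc_smul {d g : ℤ} (a : (MvPolynomial (Fin n) k)) {y : M} (hy : y ∈ ℳ d) : mc ℳ g (a • y) = pr (g - d) a • y := by
  induction a using DirectSum.Decomposition.inductionOn (GrSyz.stdGr k (Fin n)) with
  | zero => simp
  | @homogeneous i a =>
    have h : (a : (MvPolynomial (Fin n) k)) • y ∈ ℳ (i + d) := SetLike.GradedSMul.smul_mem a.2 hy
    by_cases hi : i + d = g
    · subst hi
      rw [mc_of_mem ℳ h, add_sub_cancel_right, pr_of_mem a.2]
    · show (DirectSum.decompose ℳ ((a : (MvPolynomial (Fin n) k)) • y) g : M) = _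
      rw [DirectSum.decompose_of_mem_ne ℳ h hi, pr_of_mem_ne a.2 (by omega), zero_smul]
  | add a b ha hb => rw [add_smul, map_add, ha, hb, map_add, add_smul]

theorem mc_linearCombination {m : ℕ} {deg : Fin m → ℤ} {y : Fin m → M} (hy : ∀ b, y b ∈ ℳ (deg b))
    (g : ℤ) (v : Fin m → (MvPolynomial (Fin n) k)) : mc ℳ g (Fintype.linearCombination (MvPolynomial (Fin n) k) y v) =
      Fintype.linearCombination (MvPolynomial (Fin n) k) y (fun b => pr (g - deg b) (v b)) := by
  simp only [Fintype.linearCombination_apply, map_sum]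
  exact Finset.sum_congr rfl fun b _ => mc_smul ℳ _ (hy b)

end Module

section Free

variable {m : ℕ} (deg : Fin m → ℤ)

/-- The component of degree `g` in a free module with basis degrees `deg`. -/
noncomputable def fc (g : ℤ) : (Fin m → (MvPolynomial (Fin n) k)) →ₗ[k] (Fin m → (MvPolynomial (Fin n) k)) :=
  LinearMap.pi fun b => (pr (g - deg b)).comp (LinearMap.proj b)

@[simp] theorem fc_apply (g : ℤ) (v : Fin m → (MvPolynomial (Fin n) k)) (b : Fin m) : fc deg g v b = pr (g - deg b) (v b) := rfl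

/-- Homogeneous vectors. -/
def FreeHom (g : ℤ) (v : Fin m → (MvPolynomial (Fin n) k)) : Prop := ∀ b, v b ∈ (GrSyz.stdGr k (Fin n)) (g - deg b)

theorem freeHom_fc (g : ℤ) (v : Fin m → (MvPolynomial (Fin n) k)) : FreeHom deg g (fc deg g v) := fun _ => pr_mem _ _

theorem fc_of_freeHom {g : ℤ} {v : Fin m → (MvPolynomial (Fin n) k)} (h : FreeHom deg g v) : fc deg g v = v :=
  funext fun b => pr_of_mem (h b)

theorem fc_smul {d g : ℤ} (a : (MvPolynomial (Fin n) k)) {v : Fin m → (MvPolynomial (Fin n) k)} (hv : FreeHom deg d v) :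
    fc deg g (a • v) = pr (g - d) a • v := by
  funext b
  rw [fc_apply, Pi.smul_apply, smul_eq_mul, mul_comm, pr_mul (hv b), Pi.smul_apply, smul_eq_mul, mul_comm,
    show g - deg b - (d - deg b) = g - d by ring]

theorem eq_sum_fc (v : Fin m → (MvPolynomial (Fin n) k)) : ∃ G : Finset ℤ, v = ∑ g ∈ G, fc deg g v := by
  classical
  refine ⟨Finset.univ.biUnion fun b => (DirectSum.decompose (GrSyz.stdGr k (Fin n)) (v b)).support.image (· + deg b), ?_⟩
  funext b
  simp only [Finset.sum_apply, fc_apply]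
  conv_lhs => rw [← DirectSum.sum_support_decompose (GrSyz.stdGr k (Fin n)) (v b)]
  refine Eq.trans ?_ (Finset.sum_subset (s₁ := (DirectSum.decompose (GrSyz.stdGr k (Fin n)) (v b)).support.image (· + deg b))
    (fun g hg => Finset.mem_biUnion.2 ⟨b, Finset.mem_univ b, hg⟩) fun g _ hg => ?_)
  · rw [Finset.sum_image fun _ _ _ _ h => add_right_cancel h]
    exact Finset.sum_congr rfl fun i _ => by rw [add_sub_cancel_right, pr, GradedAlgebra.proj_apply]
  · by_contra hne
    refine hg (Finset.mem_image.2 ⟨g - deg b, ?_, sub_add_cancel _ _⟩)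
    simp only [pr, GradedAlgebra.proj_apply] at hne
    exact DFinsupp.mem_support_iff.2 fun h => hne (by rw [h]; rfl)

/-- Matrices of degree-preserving maps of free modules. -/
def MatHom {m' : ℕ} (deg' : Fin m' → ℤ) (A : Matrix (Fin m) (Fin m') (MvPolynomial (Fin n) k)) : Prop :=
  ∀ a b, A a b ∈ (GrSyz.stdGr k (Fin n)) (deg' b - deg a)

theorem fc_mulVec {m' : ℕ} {deg' : Fin m' → ℤ} {A : Matrix (Fin m) (Fin m') (MvPolynomial (Fin n) k)} (hA : MatHom deg deg' A)
    (g : ℤ) (v : Fin m' → (MvPolynomial (Fin n) k)) : fc deg g (A.mulVec v) = A.mulVec (fc deg' g v) := by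
  funext a
  simp only [fc_apply, Matrix.mulVec, dotProduct, map_sum]
  refine Finset.sum_congr rfl fun b _ => ?_
  rw [pr_mul (hA a b), show g - deg a - (deg' b - deg a) = g - deg' b by ring]

theorem freeHom_mulVec {m' : ℕ} {deg' : Fin m' → ℤ} {A : Matrix (Fin m) (Fin m') (MvPolynomial (Fin n) k)} (hA : MatHom deg deg' A)
    {g : ℤ} {v : Fin m' → (MvPolynomial (Fin n) k)} (hv : FreeHom deg' g v) : FreeHom deg g (A.mulVec v) := by
  rw [← fc_of_freeHom deg' hv, ← fc_mulVec deg hA]
  exact freeHom_fc deg g _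

end Free

end GrothLib.GrSyz
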