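import Groth.Agent.Lib.GrSyz.Gens
import Mathlib.Algebra.Order.Antidiag.FinsuppEquiv
import Mathlib.RingTheory.MvPolynomial.Basic
import Mathlib.LinearAlgebra.FiniteDimensional.Lemmas

/-! Hilbert functions from graded free resolutions. -/

universe u

open MvPolynomial

namespace GrothLib.GrSyz

variable {k : Type u} [Field k] {n : ℕ}

theorem exists_basis_piece (g : ℕ) : Nonempty (Module.Basis {d : Fin n →₀ ℕ // d ∈ Finset.univ.finsuppAntidiag g} k
    (GrSyz.stdGr k (Fin n) (g : ℤ))) := by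
  classical
  let s : Set (Fin n →₀ ℕ) := {d | Finsupp.weight (fun _ : Fin n => (1 : ℤ)) d = (g : ℤ)}
  have hs : GrSyz.stdGr k (Fin n) (g : ℤ) = restrictSupport k s := by
    rw [GrSyz.stdGr, weightedHomogeneousSubmodule_eq_finsupp_supported]
    rfl
  refine ⟨((basisRestrictSupport k s).map (LinearEquiv.ofEq _ _ hs.symm)).reindex (Equiv.subtypeEquivRight fun d => ?_)⟩
  show Finsupp.weight (fun _ : Fin n => (1 : ℤ)) d = (g : ℤ) ↔ d ∈ Finset.univ.finsuppAntidiag g
  rw [weight_one, Nat.cast_inj, Finset.mem_finsuppAntidiag]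
  simp [Finsupp.degree_eq_sum]

instance finite_piece (g : ℤ) : Module.Finite k (GrSyz.stdGr k (Fin n) g) := by
  rcases lt_or_ge g 0 with hg | hg
  · have : GrSyz.stdGr k (Fin n) g = ⊥ := (Submodule.eq_bot_iff _).2 fun a ha => eq_zero_of_mem_neg hg ha
    exact Module.Finite.equiv (LinearEquiv.ofEq _ _ this.symm)
  · obtain ⟨b⟩ := exists_basis_piece (k := k) (n := n) g.toNat
    rw [Int.toNat_of_nonneg hg] at b
    exact Module.Finite.of_basis b

theorem finrank_piece {r : ℕ} (g : ℤ) : (Module.finrank k (GrSyz.stdGr k (Fin (r + 1)) g) : ℤ) =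
    if 0 ≤ g then ((Nat.choose (r + g.toNat) r : ℕ) : ℤ) else 0 := by
  classical
  split_ifs with hg
  · obtain ⟨b⟩ := exists_basis_piece (k := k) (n := r + 1) g.toNat
    rw [Int.toNat_of_nonneg hg] at b
    rw [Module.finrank_eq_card_basis b, Fintype.card_coe, Finset.card_finsuppAntidiag_nat_eq_choose,
      Finset.card_univ, Fintype.card_fin, show r + 1 + g.toNat - 1 = r + g.toNat by omega,
      ← Nat.choose_symm (show g.toNat ≤ r + g.toNat by omega), Nat.add_sub_cancel]
  · rw [show GrSyz.stdGr k (Fin (r + 1)) g = ⊥ from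
      (Submodule.eq_bot_iff _).2 fun a ha => eq_zero_of_mem_neg (not_le.1 hg) ha, finrank_bot, Nat.cast_zero]

variable {r : ℕ} {M : Type u} [AddCommGroup M] [Module k M] [Module (MvPolynomial (Fin (r + 1)) k) M]
  [IsScalarTower k (MvPolynomial (Fin (r + 1)) k) M]
  {ℳ : ℤ → Submodule k M} [DirectSum.Decomposition ℳ] [SetLike.GradedSMul (GrSyz.stdGr k (Fin (r + 1))) ℳ]
  (F : GrSyz.FreeRes (GrSyz.stdGr k (Fin (r + 1))) ℳ)

/-- The degree `g` piece of the `i`-th term. -/
noncomputable def piece (g : ℤ) (i : ℕ) : Submodule k (Fin (F.rk i) → MvPolynomial (Fin (r + 1)) k) :=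
  Submodule.pi Set.univ fun b => GrSyz.stdGr k (Fin (r + 1)) (g - F.deg i b)

omit [IsScalarTower k (MvPolynomial (Fin (r + 1)) k) M] in
theorem mem_piece {g : ℤ} {i : ℕ} {v} : v ∈ piece F g i ↔ FreeHom (F.deg i) g v := by
  simp [piece, Submodule.mem_pi, FreeHom]

/-- A piece as a product. -/
noncomputable def pieceEquiv (g : ℤ) (i : ℕ) :
    piece F g i ≃ₗ[k] ((b : Fin (F.rk i)) → GrSyz.stdGr k (Fin (r + 1)) (g - F.deg i b)) where
  toFun v b := ⟨v.1 b, (mem_piece F).1 v.2 b⟩
  invFun w := ⟨fun b => w b, (mem_piece F).2 fun b => (w b).2⟩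
  map_add' _ _ := rfl
  map_smul' _ _ := rfl

/-- The differential in degree `g`. -/
noncomputable def dPiece (g : ℤ) (i : ℕ) : piece F g (i + 1) →ₗ[k] piece F g i :=
  ((F.dLin i).restrictScalars k).restrict fun _ hv => (mem_piece F).2
    (freeHom_mulVec _ (F.d_mem i) ((mem_piece F).1 hv))

theorem finrank_piece_term (g : ℤ) (i : ℕ) : (Module.finrank k (piece F g i) : ℤ) =
    ∑ b : Fin (F.rk i), if F.deg i b ≤ g then ((Nat.choose (r + (g - F.deg i b).toNat) r : ℕ) : ℤ) else 0 := by
  rw [(pieceEquiv F g i).finrank_eq, Module.finrank_pi_fintype, Nat.cast_sum]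
  refine Finset.sum_congr rfl fun b _ => ?_
  rw [finrank_piece]
  simp [sub_nonneg]

theorem finrank_eq_alternating_sum {m : ℕ} (hF : F.HasLengthLE m) (g : ℤ) :
    (Module.finrank k (ℳ g) : ℤ) = ∑ i ∈ Finset.range (m + 1), (-1 : ℤ) ^ i * (Module.finrank k (piece F g i) : ℤ) := by
  classical
  have : ∀ i, Module.Finite k (piece F g i) := fun i => Module.Finite.equiv (pieceEquiv F g i).symm
  let R : ℕ → ℤ := fun i => Module.finrank k (LinearMap.range (dPiece F g i))
  have hstep : ∀ i, (Module.finrank k (piece F g (i + 1)) : ℤ) = R i + R (i + 1) := by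
    intro i
    have hex : LinearMap.ker (dPiece F g i) = LinearMap.range (dPiece F g (i + 1)) := by
      refine le_antisymm (fun v hv => ?_) ?_
      · obtain ⟨u, hu⟩ := (F.exact_succ i).le
          (LinearMap.mem_ker.2 (congrArg Subtype.val (LinearMap.mem_ker.1 hv)) : (v : _) ∈ _)
        refine ⟨⟨fc (F.deg (i + 1 + 1)) g u, (mem_piece F).2 (freeHom_fc _ _ _)⟩, Subtype.ext ?_⟩
        show (F.d (i + 1)).mulVec (fc (F.deg (i + 1 + 1)) g u) = (v : _)
        rw [← fc_mulVec (F.deg (i + 1)) (F.d_mem (i + 1)), show (F.d (i + 1)).mulVec u = (v : _) from hu]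
        exact fc_of_freeHom _ ((mem_piece F).1 v.2)
      · rintro _ ⟨u, rfl⟩
        exact LinearMap.mem_ker.2 (Subtype.ext (LinearMap.mem_ker.1 ((F.exact_succ i).ge ⟨_, rfl⟩)))
    have := LinearMap.finrank_range_add_finrank_ker (dPiece F g i)
    rw [hex] at this
    simp only [R]
    exact_mod_cast this.symm
  let a : piece F g 0 →ₗ[k] ℳ g :=
    LinearMap.codRestrict (ℳ g) ((F.augLin.restrictScalars k).comp (piece F g 0).subtype) fun v => by
      have h := mc_linearCombination ℳ F.aug_mem g v.1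
      rw [show (fun b => pr (g - F.deg 0 b) (v.1 b)) = v.1 from fc_of_freeHom (F.deg 0) ((mem_piece F).1 v.2)] at h
      rw [LinearMap.comp_apply, Submodule.subtype_apply, LinearMap.restrictScalars_apply,
        show F.augLin v.1 = mc ℳ g (F.augLin v.1) from h.symm]
      exact SetLike.coe_mem _
  have ha : Function.Surjective a := by
    intro x
    obtain ⟨v, hv⟩ := F.aug_surjective (x : M)
    refine ⟨⟨fc (F.deg 0) g v, (mem_piece F).2 (freeHom_fc _ _ _)⟩, Subtype.ext ?_⟩
    refine ((mc_linearCombination ℳ F.aug_mem g v).symm.trans ?_)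
    rw [hv, mc_of_mem ℳ x.2]
  have hka : LinearMap.ker a = LinearMap.range (dPiece F g 0) := by
    refine le_antisymm (fun v hv => ?_) ?_
    · obtain ⟨u, hu⟩ := F.exact_zero.le
        (LinearMap.mem_ker.2 (congrArg Subtype.val (LinearMap.mem_ker.1 hv)) : (v : _) ∈ _)
      refine ⟨⟨fc (F.deg 1) g u, (mem_piece F).2 (freeHom_fc _ _ _)⟩, Subtype.ext ?_⟩
      show (F.d 0).mulVec (fc (F.deg (0 + 1)) g u) = (v : _)
      rw [← fc_mulVec (F.deg 0) (F.d_mem 0), show (F.d 0).mulVec u = (v : _) from hu]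
      exact fc_of_freeHom _ ((mem_piece F).1 v.2)
    · rintro _ ⟨u, rfl⟩
      exact LinearMap.mem_ker.2 (Subtype.ext (LinearMap.mem_ker.1 (F.exact_zero.ge ⟨_, rfl⟩)))
  have h0 : (Module.finrank k (piece F g 0) : ℤ) = Module.finrank k (ℳ g) + R 0 := by
    have := LinearMap.finrank_range_add_finrank_ker a
    rw [hka, LinearMap.range_eq_top.2 ha, finrank_top] at this
    simp only [R]
    exact_mod_cast this.symm
  have htel : ∀ N, ∑ i ∈ Finset.range (N + 1), (-1 : ℤ) ^ i * (Module.finrank k (piece F g i) : ℤ) =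
      Module.finrank k (ℳ g) + (-1) ^ N * R N := by
    intro N
    induction N with
    | zero => simp [h0]
    | succ N ih => rw [Finset.sum_range_succ, ih, hstep N]; ring
  have hR : R m = 0 := by
    have hz : piece F g (m + 1) = ⊥ := (Submodule.eq_bot_iff _).2 fun v _ =>
      funext fun b => absurd (hF (m + 1) (by omega)) (Nat.pos_iff_ne_zero.1 b.pos)
    have := LinearMap.finrank_range_add_finrank_ker (dPiece F g m)
    rw [show Module.finrank k (piece F g (m + 1)) = 0 by rw [hz, finrank_bot]] at this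
    simp only [R]
    omega
  rw [htel m, hR, mul_zero, add_zero]

theorem finrank_eq_choose_sum {m : ℕ} (hF : F.HasLengthLE m) (g : ℤ) :
    (Module.finrank k (ℳ g) : ℤ) = ∑ i ∈ Finset.range (m + 1), (-1 : ℤ) ^ i * ∑ b : Fin (F.rk i),
        (if F.deg i b ≤ g then ((Nat.choose (r + (g - F.deg i b).toNat) r : ℕ) : ℤ) else 0) := by
  rw [finrank_eq_alternating_sum F hF]
  exact Finset.sum_congr rfl fun i _ => by rw [finrank_piece_term]

end GrothLib.GrSyz
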