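import Groth.Agent.Lib.GrSyz.Basic
import Mathlib.RingTheory.PrincipalIdealDomain
import Mathlib.RingTheory.Finiteness.Finsupp

/-! Minimal homogeneous generators and minimal graded free resolutions. -/

universe u

open MvPolynomial

namespace GrothLib.GrSyz

variable {k : Type u} [Field k] {n : ℕ}

/-- A module with an abstract family of component maps compatible with scalar multiplication. -/
theorem exists_minimal_gens {N : Type*} [AddCommGroup N] [Module (MvPolynomial (Fin n) k) N]
    [IsNoetherian (MvPolynomial (Fin n) k) N] (H : ℤ → N → Prop) (P : ℤ → N →+ N)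
    (hP : ∀ (g d : ℤ) (a : MvPolynomial (Fin n) k) (y : N), H d y → P g (a • y) = pr (g - d) a • y)
    (K : Submodule (MvPolynomial (Fin n) k) N)
    (hK : ∀ v ∈ K, v ∈ Submodule.span (MvPolynomial (Fin n) k) {y | y ∈ K ∧ ∃ d, H d y}) :
    ∃ (m : ℕ) (deg : Fin m → ℤ) (y : Fin m → N), (∀ b, H (deg b) (y b)) ∧
      LinearMap.range (Fintype.linearCombination (MvPolynomial (Fin n) k) y) = K ∧
      ∀ v, Fintype.linearCombination (MvPolynomial (Fin n) k) y v = 0 → ∀ b, constantCoeff (v b) = 0 := by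
  classical
  have hspan : Submodule.span (MvPolynomial (Fin n) k) {y | y ∈ K ∧ ∃ d, H d y} = K :=
    le_antisymm (Submodule.span_le.2 fun y hy => hy.1) hK
  have hex : ∃ m : ℕ, ∃ (deg : Fin m → ℤ) (y : Fin m → N), (∀ b, H (deg b) (y b)) ∧
      LinearMap.range (Fintype.linearCombination (MvPolynomial (Fin n) k) y) = K := by
    obtain ⟨t, ht, hts⟩ := (Submodule.fg_span_iff_fg_span_finset_subset _).1
      (show (Submodule.span (MvPolynomial (Fin n) k) {y | y ∈ K ∧ ∃ d, H d y}).FG from IsNoetherian.noetherian _)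
    choose d hd using fun i : Fin t.card => (ht (t.equivFin.symm i).2).2
    refine ⟨t.card, d, fun i => t.equivFin.symm i, hd, ?_⟩
    rw [Fintype.range_linearCombination]
    have : (Set.range fun i : Fin t.card => (t.equivFin.symm i : N)) = (t : Set N) := by
      ext x
      exact ⟨fun ⟨i, hi⟩ => hi ▸ (t.equivFin.symm i).2, fun hx => ⟨t.equivFin ⟨x, hx⟩, by simp⟩⟩
    rw [this, ← hts, hspan]
  obtain ⟨deg, y, hy, hyK⟩ := Nat.find_spec hex
  refine ⟨_, deg, y, hy, hyK, fun v hv b => ?_⟩
  by_contra hb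
  generalize hm : Nat.find hex = m at deg y v b hy hyK hv hb
  obtain ⟨m, rfl⟩ : ∃ m', m = m' + 1 := ⟨m - 1, by have := b.isLt; omega⟩
  have h0 : ∑ a, pr (deg b - deg a) (v a) • y a = 0 := by
    have := congrArg (P (deg b)) hv
    rw [map_zero, Fintype.linearCombination_apply, map_sum] at this
    rw [← this]
    exact Finset.sum_congr rfl fun a _ => (hP _ _ _ _ (hy a)).symm
  rw [Fin.sum_univ_succAbove _ b, sub_self, pr_zero_eq, add_eq_zero_iff_eq_neg] at h0
  have hmem : y b ∈ Submodule.span (MvPolynomial (Fin n) k) (Set.range fun i => y (b.succAbove i)) := by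
    have h : (C (constantCoeff (v b))⁻¹ : MvPolynomial (Fin n) k) • (C (constantCoeff (v b)) : MvPolynomial (Fin n) k) • y b = y b := by
      rw [smul_smul, ← map_mul, inv_mul_cancel₀ hb, map_one, one_smul]
    rw [← h, h0]
    exact Submodule.smul_mem _ _ (Submodule.neg_mem _
      (Submodule.sum_mem _ fun i _ => Submodule.smul_mem _ _ (Submodule.subset_span ⟨i, rfl⟩)))
  refine Nat.find_min hex (hm ▸ Nat.lt_succ_self m) ⟨fun i => deg (b.succAbove i), fun i => y (b.succAbove i),
    fun i => hy _, ?_⟩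
  rw [← hyK, Fintype.range_linearCombination, Fintype.range_linearCombination]
  refine le_antisymm (Submodule.span_mono (Set.range_comp_subset_range _ _)) (Submodule.span_le.2 ?_)
  rintro _ ⟨a, rfl⟩
  rcases Fin.eq_self_or_eq_succAbove b a with rfl | ⟨i, rfl⟩
  · exact hmem
  · exact Submodule.subset_span ⟨i, rfl⟩

theorem lc_eq_mulVec {m m' : ℕ} (y : Fin m' → Fin m → MvPolynomial (Fin n) k) (v : Fin m' → MvPolynomial (Fin n) k) :
    Fintype.linearCombination (MvPolynomial (Fin n) k) y v = (Matrix.of fun a b => y b a).mulVec v := by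
  funext a
  simp [Fintype.linearCombination_apply, Matrix.mulVec, dotProduct, Finset.sum_apply, mul_comm]

/-- The data carried along the construction of a resolution. -/
structure Stage (k : Type u) [Field k] (n : ℕ) where
  m : ℕ
  m' : ℕ
  deg : Fin m → ℤ
  deg' : Fin m' → ℤ
  D : Matrix (Fin m) (Fin m') (MvPolynomial (Fin n) k)
  hD : MatHom deg deg' D

theorem exists_kernel_gens {m : ℕ} {deg : Fin m → ℤ} (K : Submodule (MvPolynomial (Fin n) k) (Fin m → MvPolynomial (Fin n) k))
    (hK : ∀ v ∈ K, ∀ g, fc deg g v ∈ K) :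
    ∃ (m' : ℕ) (deg' : Fin m' → ℤ) (D : Matrix (Fin m) (Fin m') (MvPolynomial (Fin n) k)),
      MatHom deg deg' D ∧ LinearMap.range (Matrix.mulVecLin D) = K ∧
      ∀ v, D.mulVec v = 0 → ∀ b, constantCoeff (v b) = 0 := by
  obtain ⟨m', deg', y, hy, hr, hmin⟩ := exists_minimal_gens (FreeHom deg) (fun g => (fc deg g).toAddMonoidHom)
    (fun g d a v hv => fc_smul deg a hv) K fun v hv => by
      obtain ⟨G, hG⟩ := eq_sum_fc deg v
      rw [hG]
      exact Submodule.sum_mem _ fun g _ => Submodule.subset_span ⟨hK v hv g, g, freeHom_fc deg g v⟩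
  refine ⟨m', deg', Matrix.of fun a b => y b a, fun a b => hy b a, ?_, fun v hv => hmin v ?_⟩
  · rw [← hr]
    exact congrArg LinearMap.range (LinearMap.ext fun v => (lc_eq_mulVec y v).symm)
  · rw [lc_eq_mulVec]; exact hv

theorem exists_next (s : Stage k n) : ∃ t : (m' : ℕ) × (Fin m' → ℤ) × Matrix (Fin s.m') (Fin m') (MvPolynomial (Fin n) k),
    MatHom s.deg' t.2.1 t.2.2 ∧ LinearMap.range (Matrix.mulVecLin t.2.2) = LinearMap.ker (Matrix.mulVecLin s.D) ∧
      ∀ v, t.2.2.mulVec v = 0 → ∀ b, constantCoeff (v b) = 0 := by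
  obtain ⟨m', deg', D, h⟩ := exists_kernel_gens (deg := s.deg') (LinearMap.ker (Matrix.mulVecLin s.D))
    fun v hv g => by
      simp only [LinearMap.mem_ker, Matrix.mulVecLin_apply] at hv ⊢
      rw [← fc_mulVec _ s.hD, hv, map_zero]
  exact ⟨⟨m', deg', D⟩, h⟩

/-- The next stage. -/
noncomputable def next (s : Stage k n) : Stage k n where
  m := s.m'
  m' := (exists_next s).choose.1
  deg := s.deg'
  deg' := (exists_next s).choose.2.1
  D := (exists_next s).choose.2.2
  hD := (exists_next s).choose_spec.1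

variable {M : Type u} [AddCommGroup M] [Module k M] [Module (MvPolynomial (Fin n) k) M]
  [Module.Finite (MvPolynomial (Fin n) k) M]
  (ℳ : ℤ → Submodule k M) [DirectSum.Decomposition ℳ] [SetLike.GradedSMul (GrSyz.stdGr k (Fin n)) ℳ]

theorem exists_freeRes_minimal :
    ∃ F : GrSyz.FreeRes (GrSyz.stdGr k (Fin n)) ℳ, F.IsMinimal (GrSyz.irrel (GrSyz.stdGr k (Fin n))).toIdeal := by
  classical
  have : IsNoetherian (MvPolynomial (Fin n) k) M := isNoetherian_of_isNoetherianRing_of_finite _ _
  obtain ⟨m₀, deg₀, y, hy, hr, hmin⟩ := exists_minimal_gens (fun g x => x ∈ ℳ g) (mc ℳ)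
    (fun g d a x hx => mc_smul ℳ a hx) (⊤ : Submodule (MvPolynomial (Fin n) k) M) fun v _ => by
      rw [← DirectSum.sum_support_decompose ℳ v]
      exact Submodule.sum_mem _ fun g _ => Submodule.subset_span
        ⟨trivial, g, (DirectSum.decompose ℳ v g).2⟩
  obtain ⟨m₁, deg₁, D₀, hD₀, hr₀, hmin₀⟩ := exists_kernel_gens (deg := deg₀)
    (LinearMap.ker (Fintype.linearCombination (MvPolynomial (Fin n) k) y)) fun v hv g => by
      rw [LinearMap.mem_ker] at hv ⊢
      refine Eq.trans ?_ ((congrArg (mc ℳ g) hv).trans (map_zero _))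
      exact (mc_linearCombination ℳ hy g v).symm
  let st : ℕ → Stage k n := fun i => Nat.rec ⟨m₀, m₁, deg₀, deg₁, D₀, hD₀⟩ (fun _ s => next s) i
  have hker : ∀ i v, (st i).D.mulVec v = 0 → ∀ b, constantCoeff (v b) = 0 := by
    intro i
    cases i with
    | zero => exact hmin₀
    | succ i => exact (exists_next (st i)).choose_spec.2.2
  refine ⟨{
    rk := fun i => (st i).m
    deg := fun i => (st i).deg
    d := fun i => (st i).D
    aug := y
    d_mem := fun i => (st i).hD
    aug_mem := hy
    aug_surjective := LinearMap.range_eq_top.1 hr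
    exact_zero := hr₀.symm
    exact_succ := fun i => ((exists_next (st i)).choose_spec.2.1).symm }, fun i a b => ?_⟩
  rw [mem_irrel]
  cases i with
  | zero =>
    show constantCoeff (D₀ a b) = 0
    have : (D₀.mulVec (Pi.single b 1)) ∈ LinearMap.ker (Fintype.linearCombination (MvPolynomial (Fin n) k) y) :=
      hr₀.le ⟨_, rfl⟩
    simpa [Matrix.mulVec_single] using hmin _ this a
  | succ i =>
    have : (st (i + 1)).D.mulVec (Pi.single b 1) ∈ LinearMap.ker (Matrix.mulVecLin (st i).D) :=
      ((exists_next (st i)).choose_spec.2.1).le ⟨_, rfl⟩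
    simpa [Matrix.mulVec_single] using hker i _ this a

end GrothLib.GrSyz
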