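import Groth.Agent.Lib.GrSyz.Gens
import Groth.Agent.Lib.GrSyz.Length
import Groth.Agent.Lib.GrAB27.Basic
import Groth.Agent.Lib.BEExact.ShortResolution

/-!
# Resolutions of homogeneous ideals of positive depth quotient in three variables
-/

set_option autoImplicit false
universe u

open MvPolynomial
open scoped Pointwise

namespace GrothLib.GrSyz

variable {k : Type u} [Field k]

local notation "S₃" => MvPolynomial (Fin 3) k

theorem constantCoeff_minor {n m r : ℕ} (A : Matrix (Fin n) (Fin m) S₃) (hA : ∀ a b, constantCoeff (A a b) = 0)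
    (hr : 0 < r) : CAlgX.minorIdeal A r ≤ RingHom.ker (constantCoeff : S₃ →+* k) := by
  refine Ideal.span_le.2 ?_
  rintro _ ⟨⟨f, g⟩, rfl⟩
  rw [SetLike.mem_coe, RingHom.mem_ker, RingHom.map_det]
  exact Matrix.det_eq_zero_of_row_eq_zero ⟨0, hr⟩ fun j => hA _ _

theorem rk_eq_zero_step (rk : ℕ → ℕ) (d : (i : ℕ) → Matrix (Fin (rk i)) (Fin (rk (i + 1))) S₃)
    (hmin : ∀ i a b, constantCoeff (d (i + 1) a b) = 0)
    (hex : ∀ i, LinearMap.ker (d i).mulVecLin = LinearMap.range (d (i + 1)).mulVecLin)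
    (ℓ : S₃) (hℓ : constantCoeff ℓ = 0) (hℓ0 : ℓ ≠ 0)
    (h0 : ∀ w, ℓ • w ∈ LinearMap.range (d 0).mulVecLin → w ∈ LinearMap.range (d 0).mulVecLin)
    (e : ℕ) (he : 3 ≤ e) (he1 : rk (e + 1) = 0) : rk e = 0 := by
  by_contra hne
  have hdiv : ∀ i w, ℓ • w ∈ LinearMap.range (d i).mulVecLin → w ∈ LinearMap.range (d i).mulVecLin := by
    intro i w hw
    cases i with
    | zero => exact h0 w hw
    | succ i =>
      rw [← hex i, LinearMap.mem_ker, map_smul, smul_eq_zero] at hw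
      rw [← hex i, LinearMap.mem_ker]
      exact hw.resolve_left hℓ0
  let J : Ideal S₃ := Ideal.span {ℓ}
  have lift : ∀ {m : ℕ} (y : Fin m → S₃ ⧸ J), ∃ v, y = Ideal.Quotient.mk J ∘ v := fun y =>
    ⟨fun c => (Ideal.Quotient.mk_surjective (y c)).choose,
      funext fun c => (Ideal.Quotient.mk_surjective (y c)).choose_spec.symm⟩
  have hmk : ∀ {m : ℕ} (u : Fin m → S₃), Ideal.Quotient.mk J ∘ (ℓ • u) = 0 := fun u =>
    funext fun c => Ideal.Quotient.eq_zero_iff_mem.2 (Ideal.mul_mem_right _ _ (Ideal.mem_span_singleton_self ℓ))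
  have hmap : ∀ i, ∀ y, ((d i).map (Ideal.Quotient.mk J)).mulVecLin y = 0 →
      y ∈ LinearMap.range ((d (i + 1)).map (Ideal.Quotient.mk J)).mulVecLin := by
    intro i y hy
    obtain ⟨v, rfl⟩ := lift y
    obtain ⟨w, hw⟩ := BEExact.exists_smul_eq_of_map_eq_zero (x := ℓ) ((d i).mulVec v) (funext fun c => by
      rw [Function.comp_apply, RingHom.map_mulVec]; exact congrFun hy c)
    obtain ⟨z, hz⟩ := hdiv i w ⟨v, hw⟩
    rw [Matrix.mulVecLin_apply] at hz
    obtain ⟨u, hu⟩ := (hex i).le (show v - ℓ • z ∈ LinearMap.ker (d i).mulVecLin by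
      rw [LinearMap.mem_ker, Matrix.mulVecLin_apply, Matrix.mulVec_sub, Matrix.mulVec_smul, hw, hz, sub_self])
    refine ⟨Ideal.Quotient.mk J ∘ u, funext fun c => ?_⟩
    show ((d (i + 1)).map _).mulVec (Ideal.Quotient.mk J ∘ u) c = _
    rw [← RingHom.map_mulVec, ← Matrix.mulVecLin_apply, hu, Function.comp_apply, Pi.sub_apply, map_sub,
      show Ideal.Quotient.mk J ((ℓ • z) c) = 0 from congrFun (hmk z) c, sub_zero]
  have hex' : BEExact.IsExact e rk (fun i => (d i).map (Ideal.Quotient.mk J)) := by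
    refine ⟨LinearMap.ker_eq_bot'.2 fun y hy => ?_, fun i _ => le_antisymm (hmap i) ?_⟩
    · obtain ⟨z, hz⟩ := hmap _ y hy
      rw [← hz]
      have : IsEmpty (Fin (rk (e - 1 + 1 + 1))) := by
        rw [show e - 1 + 1 + 1 = e + 1 by omega, he1]; infer_instance
      rw [Subsingleton.elim z 0, map_zero]
    · rintro _ ⟨y, rfl⟩
      obtain ⟨v, rfl⟩ := lift y
      rw [LinearMap.mem_ker, Matrix.mulVecLin_apply, Matrix.mulVecLin_apply, Matrix.mulVec_mulVec,
        ← Matrix.map_mul]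
      have h1 : d i * d (i + 1) = 0 := Matrix.ext_of_mulVec_single fun c => by
        rw [← Matrix.mulVec_mulVec, Matrix.zero_mulVec]
        exact LinearMap.mem_ker.1 ((hex i).ge ⟨_, rfl⟩)
      rw [h1, Matrix.map_zero _ (map_zero _), Matrix.zero_mulVec]
  have h1 := BEExact.le_idealDepth_minorIdeal e rk (fun i => (d i).map (Ideal.Quotient.mk J)) hex' (e - 1)
    (by omega) (rk e) (BEExact.σ_last rk (by omega)).symm
  rw [BEExact.minorIdeal_map] at h1
  have hJm : J ≤ RingHom.ker (constantCoeff : S₃ →+* k) :=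
    (Ideal.span_singleton_le_iff_mem _).2 (RingHom.mem_ker.2 hℓ)
  let m' := (RingHom.ker (constantCoeff : S₃ →+* k)).map (Ideal.Quotient.mk J)
  have hm' : m' ≠ ⊤ := fun h => by
    have h2 := congrArg (Ideal.comap (Ideal.Quotient.mk J)) h
    rw [Ideal.comap_map_of_surjective _ Ideal.Quotient.mk_surjective, Ideal.comap_top, ← RingHom.ker_eq_comap_bot,
      Ideal.mk_ker, sup_eq_left.2 hJm] at h2
    simpa using h2.ge (Submodule.mem_top (x := (1 : S₃)))
  have hIM : m' • (⊤ : Submodule (S₃ ⧸ J) (S₃ ⧸ J)) ≠ ⊤ := by rwa [Ideal.smul_eq_mul, Ideal.mul_top]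
  have h2 : ((3 : ℕ) : ℕ∞) ≤ LocCoh.idealDepth m' (S₃ ⧸ J) := by
    refine le_trans (le_trans ?_ h1) (Depth.idealDepth_mono (Ideal.map_mono ?_))
    · exact_mod_cast (show 3 ≤ e - 1 + 1 by omega)
    · obtain ⟨e', rfl⟩ : ∃ e', e = e' + 1 := ⟨e - 1, by omega⟩
      obtain ⟨e'', rfl⟩ : ∃ e'', e' = e'' + 1 := ⟨e' - 1, by omega⟩
      exact constantCoeff_minor _ (hmin e'') (Nat.pos_of_ne_zero hne)
  obtain ⟨rs', hlen, hmem, hwr⟩ := (Depth.le_idealDepth_iff_exists m' hIM 3).1 h2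
  choose! lft hlft using fun y (hy : y ∈ rs') =>
    (Ideal.mem_map_iff_of_surjective _ Ideal.Quotient.mk_surjective).1 (hmem y hy)
  have hrs : (rs'.map lft).map (algebraMap S₃ (S₃ ⧸ J)) = rs' := by
    rw [List.map_map]
    exact (List.map_congr_left fun y hy => (hlft y hy).2).trans (List.map_id _)
  have hreg : RingTheory.Sequence.IsWeaklyRegular S₃ (ℓ :: rs'.map lft) := by
    rw [RingTheory.Sequence.isWeaklyRegular_cons_iff]
    refine ⟨fun a b h => mul_left_cancel₀ hℓ0 h, ?_⟩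
    have h3 := (RingTheory.Sequence.isWeaklyRegular_map_algebraMap_iff (S₃ ⧸ J) (S₃ ⧸ J) (rs'.map lft)).1
      (by rw [hrs]; exact hwr)
    exact ((Submodule.quotEquivOfEq J (ℓ • (⊤ : Submodule S₃ S₃)) (by
      rw [← Submodule.ideal_span_singleton_smul, Ideal.smul_eq_mul, Ideal.mul_top])).isWeaklyRegular_congr _).1 h3
  have h4 : ((4 : ℕ) : ℕ∞) ≤ LocCoh.idealDepth (GrSyz.irrel (GrSyz.stdGr k (Fin 3))).toIdeal S₃ := by
    refine (Depth.le_idealDepth_iff_exists _ ?_ 4).2 ⟨_, ?_, ?_, hreg⟩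
    · rw [Ideal.smul_eq_mul, Ideal.mul_top]
      exact (irrel_isMaximal (k := k) (n := 3)).ne_top
    · rw [List.length_cons, List.length_map, hlen]
    · intro r hr
      rw [mem_irrel]
      rcases List.mem_cons.1 hr with rfl | hr
      · exact hℓ
      · obtain ⟨y, hy, rfl⟩ := List.mem_map.1 hr
        exact RingHom.mem_ker.1 (hlft y hy).1
  rw [GrAB27.idealDepth_irrel] at h4
  exact absurd (show (4 : ℕ) ≤ 3 by exact_mod_cast h4) (by omega)

theorem rk_three_eq_zero (rk : ℕ → ℕ) (d : (i : ℕ) → Matrix (Fin (rk i)) (Fin (rk (i + 1))) S₃)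
    (hmin : ∀ i a b, constantCoeff (d (i + 1) a b) = 0)
    (hex : ∀ i, LinearMap.ker (d i).mulVecLin = LinearMap.range (d (i + 1)).mulVecLin)
    (ℓ : S₃) (hℓ : constantCoeff ℓ = 0) (hℓ0 : ℓ ≠ 0)
    (h0 : ∀ w, ℓ • w ∈ LinearMap.range (d 0).mulVecLin → w ∈ LinearMap.range (d 0).mulVecLin) :
    rk 3 = 0 := by
  have h5 : rk 5 = 0 :=
    rk_eq_zero 3 (fun i => rk (i + 1)) (fun i => d (i + 1)) hmin (fun i => hex (i + 1)) 4 (by omega)
  have h4 : rk 4 = 0 := rk_eq_zero_step rk d hmin hex ℓ hℓ hℓ0 h0 4 (by omega) h5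
  exact rk_eq_zero_step rk d hmin hex ℓ hℓ hℓ0 h0 3 le_rfl h4

end GrothLib.GrSyz
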