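import Groth.Agent.Lib.GrSyz.Gens
import Mathlib.RingTheory.Nilpotent.Basic
import Mathlib.LinearAlgebra.Dimension.Constructions
import Mathlib.LinearAlgebra.FiniteDimensional.Basic

/-! Uniqueness of minimal graded free resolutions. -/

universe u

open MvPolynomial

namespace GrothLib.GrSyz

variable {k : Type u} [Field k] {n : ℕ}


theorem matHom_mul {m m' m'' : ℕ} {deg : Fin m → ℤ} {deg' : Fin m' → ℤ} {deg'' : Fin m'' → ℤ}
    {A : Matrix (Fin m) (Fin m') (MvPolynomial (Fin n) k)} (hA : MatHom deg deg' A)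
    {B : Matrix (Fin m') (Fin m'') (MvPolynomial (Fin n) k)} (hB : MatHom deg' deg'' B) :
    MatHom deg deg'' (A * B) := fun a c => by
  rw [Matrix.mul_apply]
  refine Submodule.sum_mem _ fun b _ => ?_
  rw [show deg'' c - deg a = (deg' b - deg a) + (deg'' c - deg' b) by ring]
  exact SetLike.mul_mem_graded (hA a b) (hB b c)

theorem isUnit_of_sub_one {m : ℕ} {deg : Fin m → ℤ} {A : Matrix (Fin m) (Fin m) (MvPolynomial (Fin n) k)}
    (hA : MatHom deg deg A) (hc : ∀ a b, constantCoeff ((A - 1) a b) = 0) : IsUnit A := by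
  classical
  set U := A - 1 with hU
  have hUh : MatHom deg deg U := fun a b => by
    rw [hU, Matrix.sub_apply]
    refine sub_mem (hA a b) ?_
    rcases eq_or_ne a b with rfl | h
    · rw [Matrix.one_apply_eq, sub_self]; exact SetLike.GradedOne.one_mem
    · rw [Matrix.one_apply_ne h]; exact zero_mem _
  have h1 : ∀ a b, U a b ≠ 0 → deg a + 1 ≤ deg b := by
    intro a b h
    by_contra hlt
    rcases lt_or_eq_of_le (show deg b - deg a ≤ 0 by omega) with hl | he
    · exact h (eq_zero_of_mem_neg hl (hUh a b))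
    · have := hUh a b
      rw [he] at this
      exact h (by rw [mem_zero_eq_C this, hc a b, map_zero])
  have hpow : ∀ (j : ℕ) a b, (U ^ j) a b ≠ 0 → deg a + j ≤ deg b := by
    intro j
    induction j with
    | zero =>
      intro a b h
      rcases eq_or_ne a b with rfl | hne
      · simp
      · exact absurd (by rw [pow_zero, Matrix.one_apply_ne hne]) h
    | succ j ih =>
      intro a b h
      rw [pow_succ, Matrix.mul_apply] at h
      obtain ⟨c, -, hc'⟩ := Finset.exists_ne_zero_of_sum_ne_zero h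
      have h2 := ih a c (left_ne_zero_of_mul hc')
      have h3 := h1 c b (right_ne_zero_of_mul hc')
      push_cast
      omega
  have hnil : IsNilpotent U := by
    refine ⟨2 * (∑ a, (deg a).natAbs) + 1, Matrix.ext fun a b => ?_⟩
    by_contra h
    have := hpow _ a b h
    have ha := Finset.single_le_sum (f := fun a => (deg a).natAbs) (fun _ _ => Nat.zero_le _) (Finset.mem_univ a)
    have hb := Finset.single_le_sum (f := fun a => (deg a).natAbs) (fun _ _ => Nat.zero_le _) (Finset.mem_univ b)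
    omega
  simpa [hU] using hnil.isUnit_one_add

theorem matHom_of_inverse {m m' : ℕ} {deg : Fin m → ℤ} {deg' : Fin m' → ℤ}
    {A : Matrix (Fin m) (Fin m') (MvPolynomial (Fin n) k)} (hA : MatHom deg deg' A)
    {W : Matrix (Fin m') (Fin m) (MvPolynomial (Fin n) k)} (h1 : A * W = 1) (h2 : W * A = 1) :
    MatHom deg' deg W := by
  classical
  intro a b
  let col : Fin m' → MvPolynomial (Fin n) k := fun c => W c b
  have hcol : A.mulVec col = Pi.single b 1 := by
    funext c
    show (A * W) c b = _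
    rw [h1]
    rcases eq_or_ne c b with rfl | h
    · simp
    · simp [Matrix.one_apply_ne h, Pi.single_eq_of_ne h]
  have hfix : fc deg' (deg b) col = col := by
    have hinj : Function.Injective (A.mulVec) := fun x y h => by
      have := congrArg W.mulVec h
      rwa [Matrix.mulVec_mulVec, Matrix.mulVec_mulVec, h2, Matrix.one_mulVec, Matrix.one_mulVec] at this
    refine hinj ?_
    rw [← fc_mulVec deg hA, hcol]
    refine fc_of_freeHom deg fun c => ?_
    rcases eq_or_ne c b with rfl | h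
    · rw [Pi.single_eq_same, sub_self]; exact SetLike.GradedOne.one_mem
    · rw [Pi.single_eq_of_ne h]; exact zero_mem _
  have := congrFun hfix a
  rw [fc_apply] at this
  show col a ∈ _
  rw [← this]
  exact pr_mem _ _

theorem exists_iso_lift {m m' : ℕ} {deg : Fin m → ℤ} {deg' : Fin m' → ℤ} {N N' : Type*}
    [AddCommGroup N] [Module (MvPolynomial (Fin n) k) N] [AddCommGroup N'] [Module (MvPolynomial (Fin n) k) N']
    (L : (Fin m → MvPolynomial (Fin n) k) →ₗ[MvPolynomial (Fin n) k] N)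
    (L' : (Fin m' → MvPolynomial (Fin n) k) →ₗ[MvPolynomial (Fin n) k] N')
    (T : N →ₗ[MvPolynomial (Fin n) k] N') (T' : N' →ₗ[MvPolynomial (Fin n) k] N)
    (hker : ∀ v, L v = 0 → ∀ b, constantCoeff (v b) = 0)
    (hker' : ∀ v, L' v = 0 → ∀ b, constantCoeff (v b) = 0)
    (hex : ∀ b, ∃ v, FreeHom deg' (deg b) v ∧ L' v = T (L (Pi.single b 1)))
    (hex' : ∀ b, ∃ v, FreeHom deg (deg' b) v ∧ L v = T' (L' (Pi.single b 1)))
    (hT : ∀ v, T' (T (L v)) = L v) (hT' : ∀ v, T (T' (L' v)) = L' v) :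
    ∃ (ψ : Matrix (Fin m') (Fin m) (MvPolynomial (Fin n) k)) (χ : Matrix (Fin m) (Fin m') (MvPolynomial (Fin n) k)),
      MatHom deg' deg ψ ∧ MatHom deg deg' χ ∧ ψ * χ = 1 ∧ χ * ψ = 1 ∧
      (∀ v, L' (ψ.mulVec v) = T (L v)) ∧ (∀ v, L (χ.mulVec v) = T' (L' v)) := by
  classical
  choose ψc hψc1 hψc2 using hex
  choose χc hχc1 hχc2 using hex'
  let ψ : Matrix (Fin m') (Fin m) (MvPolynomial (Fin n) k) := Matrix.of fun a b => ψc b a
  let χ : Matrix (Fin m) (Fin m') (MvPolynomial (Fin n) k) := Matrix.of fun a b => χc b a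
  have hψ : ∀ v, L' (ψ.mulVec v) = T (L v) := fun v => by
    refine LinearMap.congr_fun (show L'.comp (Matrix.mulVecLin ψ) = T.comp L from
      LinearMap.pi_ext' fun b => LinearMap.ext_ring ?_) v
    simp [ψ, ← hψc2 b, Matrix.mulVec_single]
    rfl
  have hχ : ∀ v, L (χ.mulVec v) = T' (L' v) := fun v => by
    refine LinearMap.congr_fun (show L.comp (Matrix.mulVecLin χ) = T'.comp L' from
      LinearMap.pi_ext' fun b => LinearMap.ext_ring ?_) v
    simp [χ, ← hχc2 b, Matrix.mulVec_single]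
    rfl
  have hψh : MatHom deg' deg ψ := fun a b => hψc1 b a
  have hχh : MatHom deg deg' χ := fun a b => hχc1 b a
  obtain ⟨u, hu⟩ : IsUnit (χ * ψ) := by
    refine isUnit_of_sub_one (matHom_mul hχh hψh) fun a b => ?_
    have h0 : L ((χ * ψ - 1).mulVec (Pi.single b 1)) = 0 := by
      rw [Matrix.sub_mulVec, ← Matrix.mulVec_mulVec, Matrix.one_mulVec, map_sub, hχ, hψ, hT, sub_self]
    simpa [Matrix.mulVec_single] using hker _ h0 a
  obtain ⟨w, hw⟩ : IsUnit (ψ * χ) := by
    refine isUnit_of_sub_one (matHom_mul hψh hχh) fun a b => ?_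
    have h0 : L' ((ψ * χ - 1).mulVec (Pi.single b 1)) = 0 := by
      rw [Matrix.sub_mulVec, ← Matrix.mulVec_mulVec, Matrix.one_mulVec, map_sub, hψ, hχ, hT', sub_self]
    simpa [Matrix.mulVec_single] using hker' _ h0 a
  let χ₁ := (↑u⁻¹ : Matrix (Fin m) (Fin m) (MvPolynomial (Fin n) k)) * χ
  let χ₂ := χ * (↑w⁻¹ : Matrix (Fin m') (Fin m') (MvPolynomial (Fin n) k))
  have e1 : χ₁ * ψ = 1 := by rw [Matrix.mul_assoc, ← hu, Units.inv_mul]
  have e2 : ψ * χ₂ = 1 := by rw [← Matrix.mul_assoc, ← hw, Units.mul_inv]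
  have e3 : χ₁ = χ₂ := by
    rw [← Matrix.mul_one χ₁, ← e2, ← Matrix.mul_assoc, e1, Matrix.one_mul]
  have e4 : ψ * χ₁ = 1 := e3 ▸ e2
  refine ⟨ψ, χ₁, hψh, matHom_of_inverse hψh e4 e1, e4, e1, hψ, fun v => ?_⟩
  calc L (χ₁.mulVec v) = T' (T (L (χ₁.mulVec v))) := (hT _).symm
    _ = T' (L' v) := by rw [← hψ, Matrix.mulVec_mulVec, e4, Matrix.one_mulVec]

variable {M : Type u} [AddCommGroup M] [Module k M] [Module (MvPolynomial (Fin n) k) M]
  {ℳ : ℤ → Submodule k M} [DirectSum.Decomposition ℳ] [SetLike.GradedSMul (GrSyz.stdGr k (Fin n)) ℳ]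
  (F F' : GrSyz.FreeRes (GrSyz.stdGr k (Fin n)) ℳ)

theorem cc_mulVec_eq_zero {k : Type u} [CommRing k] {p q : ℕ} {A : Matrix (Fin p) (Fin q) (MvPolynomial (Fin n) k)}
    (h : ∀ a b, constantCoeff (A a b) = 0) (v : Fin q → MvPolynomial (Fin n) k) (a : Fin p) :
    constantCoeff (A.mulVec v a) = 0 := by
  simp only [Matrix.mulVec, dotProduct, map_sum, map_mul]
  exact Finset.sum_eq_zero fun c _ => by rw [h a c, zero_mul]

theorem aug_ker_minimal (hF : F.IsMinimal (GrSyz.irrel (GrSyz.stdGr k (Fin n))).toIdeal) :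
    ∀ v, F.augLin v = 0 → ∀ b, constantCoeff (v b) = 0 := fun v hv b => by
  obtain ⟨u, rfl⟩ := F.exact_zero.le (LinearMap.mem_ker.2 hv)
  exact cc_mulVec_eq_zero (fun a c => mem_irrel.1 (hF 0 a c)) u b

theorem d_ker_minimal (hF : F.IsMinimal (GrSyz.irrel (GrSyz.stdGr k (Fin n))).toIdeal) (i : ℕ) :
    ∀ v, F.dLin i v = 0 → ∀ b, constantCoeff (v b) = 0 := fun v hv b => by
  obtain ⟨u, rfl⟩ := (F.exact_succ i).le (LinearMap.mem_ker.2 hv)
  exact cc_mulVec_eq_zero (fun a c => mem_irrel.1 (hF (i + 1) a c)) u b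

theorem freeHom_col (i : ℕ) (b : Fin (F.rk (i + 1))) :
    FreeHom (F.deg i) (F.deg (i + 1) b) (F.dLin i (Pi.single b 1)) := fun a => by
  simpa [Matrix.mulVec_single] using F.d_mem i a b

theorem exists_iso (hF : F.IsMinimal (GrSyz.irrel (GrSyz.stdGr k (Fin n))).toIdeal)
    (hF' : F'.IsMinimal (GrSyz.irrel (GrSyz.stdGr k (Fin n))).toIdeal) (i : ℕ) :
    ∃ (ψ : Matrix (Fin (F'.rk i)) (Fin (F.rk i)) (MvPolynomial (Fin n) k))
      (χ : Matrix (Fin (F.rk i)) (Fin (F'.rk i)) (MvPolynomial (Fin n) k)),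
      MatHom (F'.deg i) (F.deg i) ψ ∧ MatHom (F.deg i) (F'.deg i) χ ∧ ψ * χ = 1 ∧ χ * ψ = 1 ∧
      (∀ v, ψ.mulVec (F.dLin i v) ∈ LinearMap.range (F'.dLin i)) ∧
      (∀ v, χ.mulVec (F'.dLin i v) ∈ LinearMap.range (F.dLin i)) := by
  classical
  induction i with
  | zero =>
    obtain ⟨ψ, χ, h1, h2, h3, h4, h5, h6⟩ := exists_iso_lift (deg := F.deg 0) (deg' := F'.deg 0)
      F.augLin F'.augLin LinearMap.id LinearMap.id (aug_ker_minimal F hF) (aug_ker_minimal F' hF')
      (fun b => by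
        obtain ⟨v, hv⟩ := F'.aug_surjective (F.aug b)
        refine ⟨fc (F'.deg 0) (F.deg 0 b) v, freeHom_fc _ _ _, ?_⟩
        refine ((mc_linearCombination ℳ F'.aug_mem (F.deg 0 b) v).symm.trans ?_)
        rw [hv, mc_of_mem ℳ (F.aug_mem b)]
        simp)
      (fun b => by
        obtain ⟨v, hv⟩ := F.aug_surjective (F'.aug b)
        refine ⟨fc (F.deg 0) (F'.deg 0 b) v, freeHom_fc _ _ _, ?_⟩
        refine ((mc_linearCombination ℳ F.aug_mem (F'.deg 0 b) v).symm.trans ?_)
        rw [hv, mc_of_mem ℳ (F'.aug_mem b)]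
        simp)
      (fun v => rfl) (fun v => rfl)
    refine ⟨ψ, χ, h1, h2, h3, h4, fun v => F'.exact_zero.le ?_, fun v => F.exact_zero.le ?_⟩
    · exact LinearMap.mem_ker.2 ((h5 _).trans (LinearMap.mem_ker.1 (F.exact_zero.ge ⟨v, rfl⟩)))
    · exact LinearMap.mem_ker.2 ((h6 _).trans (LinearMap.mem_ker.1 (F'.exact_zero.ge ⟨v, rfl⟩)))
  | succ i ih =>
    obtain ⟨φ, ω, g1, g2, g3, g4, g5, g6⟩ := ih
    obtain ⟨ψ, χ, h1, h2, h3, h4, h5, h6⟩ := exists_iso_lift (deg := F.deg (i + 1)) (deg' := F'.deg (i + 1))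
      (F.dLin i) (F'.dLin i) (Matrix.mulVecLin φ) (Matrix.mulVecLin ω)
      (d_ker_minimal F hF i) (d_ker_minimal F' hF' i)
      (fun b => by
        obtain ⟨v, hv⟩ := g5 (Pi.single b 1)
        refine ⟨fc (F'.deg (i + 1)) (F.deg (i + 1) b) v, freeHom_fc _ _ _, ?_⟩
        refine ((fc_mulVec (F'.deg i) (F'.d_mem i) _ v).symm.trans ?_)
        rw [show (F'.d i).mulVec v = φ.mulVec (F.dLin i (Pi.single b 1)) from hv]
        exact fc_of_freeHom _ (freeHom_mulVec _ g1 (freeHom_col F i b)))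
      (fun b => by
        obtain ⟨v, hv⟩ := g6 (Pi.single b 1)
        refine ⟨fc (F.deg (i + 1)) (F'.deg (i + 1) b) v, freeHom_fc _ _ _, ?_⟩
        refine ((fc_mulVec (F.deg i) (F.d_mem i) _ v).symm.trans ?_)
        rw [show (F.d i).mulVec v = ω.mulVec (F'.dLin i (Pi.single b 1)) from hv]
        exact fc_of_freeHom _ (freeHom_mulVec _ g2 (freeHom_col F' i b)))
      (fun v => by simp [Matrix.mulVec_mulVec, ← Matrix.mul_assoc, g4])
      (fun v => by simp [Matrix.mulVec_mulVec, ← Matrix.mul_assoc, g3])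
    refine ⟨ψ, χ, h1, h2, h3, h4, fun v => (F'.exact_succ i).le ?_, fun v => (F.exact_succ i).le ?_⟩
    · refine LinearMap.mem_ker.2 ((h5 _).trans ?_)
      rw [show F.dLin i (F.dLin (i + 1) v) = 0 from LinearMap.mem_ker.1 ((F.exact_succ i).ge ⟨v, rfl⟩), map_zero]
    · refine LinearMap.mem_ker.2 ((h6 _).trans ?_)
      rw [show F'.dLin i (F'.dLin (i + 1) v) = 0 from LinearMap.mem_ker.1 ((F'.exact_succ i).ge ⟨v, rfl⟩), map_zero]

/-- Graded Betti numbers do not depend on the minimal resolution. -/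
theorem betti_eq (hF : F.IsMinimal (GrSyz.irrel (GrSyz.stdGr k (Fin n))).toIdeal)
    (hF' : F'.IsMinimal (GrSyz.irrel (GrSyz.stdGr k (Fin n))).toIdeal) (i : ℕ) (j : ℤ) :
    F.betti i j = F'.betti i j := by
  classical
  obtain ⟨ψ, χ, h1, h2, h3, h4, -, -⟩ := exists_iso F F' hF hF' i
  let α := {b : Fin (F.rk i) // F.deg i b = j}
  let β := {b : Fin (F'.rk i) // F'.deg i b = j}
  let A : Matrix β α k := Matrix.of fun a b => constantCoeff (ψ a.1 b.1)
  let B : Matrix α β k := Matrix.of fun a b => constantCoeff (χ a.1 b.1)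
  have key : ∀ {p q : ℕ} {dp : Fin p → ℤ} {dq : Fin q → ℤ} {X : Matrix (Fin p) (Fin q) (MvPolynomial (Fin n) k)}
      {Y : Matrix (Fin q) (Fin p) (MvPolynomial (Fin n) k)}, MatHom dp dq X → X * Y = 1 →
      ∀ a c : {b : Fin p // dp b = j}, ∑ b : {b : Fin q // dq b = j}, constantCoeff (X a.1 b.1) * constantCoeff (Y b.1 c.1) =
        if a = c then 1 else 0 := by
    intro p q dp dq X Y hX hXY a c
    have h := congrArg constantCoeff (congrFun (congrFun hXY a.1) c.1)
    rw [Matrix.mul_apply, map_sum, Matrix.one_apply] at h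
    simp only [map_mul, apply_ite constantCoeff, map_one, map_zero, ← Subtype.ext_iff] at h
    rw [← h, ← Finset.sum_subtype (Finset.univ.filter fun b => dq b = j) (by simp)
      (fun b => constantCoeff (X a.1 b) * constantCoeff (Y b c.1))]
    refine Finset.sum_subset (Finset.subset_univ _) fun b _ hb => ?_
    rw [Finset.mem_filter, not_and] at hb
    rw [constantCoeff_of_mem (fun h' => hb (Finset.mem_univ b) (by rw [← a.2]; omega)) (hX a.1 b), zero_mul]
  have hAB : A * B = 1 := by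
    ext a c
    rw [Matrix.mul_apply, Matrix.one_apply]
    exact key h1 h3 a c
  have hBA : B * A = 1 := by
    ext a c
    rw [Matrix.mul_apply, Matrix.one_apply]
    exact key h2 h4 a c
  have e : (α → k) ≃ₗ[k] (β → k) := LinearEquiv.ofLinear (Matrix.toLin' A) (Matrix.toLin' B)
    (by rw [← Matrix.toLin'_mul, hAB, Matrix.toLin'_one]) (by rw [← Matrix.toLin'_mul, hBA, Matrix.toLin'_one])
  have := e.finrank_eq
  rw [Module.finrank_fintype_fun_eq_card, Module.finrank_fintype_fun_eq_card, Fintype.card_subtype,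
    Fintype.card_subtype] at this
  exact this

end GrothLib.GrSyz
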